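/-
Characters fully ramified over a normal subgroup `Z`: `χ|Z = e • θ` with `e ^ 2 = |G : Z|`.

* `invariant`, `eq_zero_of_notMem`, `eq_of_over` (`χ` is the only character over `θ`)
* `pullback`: full ramification passes to a subgroup with `p`-part index over `Z`
* `exists_extension_of_cyclic`, `coset_sum_eq_card` : extension to a cyclic quotient
-/
import Cfsg.Agent.Lib.CharExtend.Basic
import Cfsg.Agent.Lib.CliffordChar.Basic
import Cfsg.Agent.Lib.Char.Linear

set_option autoImplicit false

namespace Cfsg.Agent.FullyRamified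

open Cfsg
open scoped ComplexConjugate

variable {G : Type*} [Group G] [Fintype G]

/-- A function supported on `Z`: sums over `G` reduce to sums over `Z`. -/
theorem sum_eq_sum_of_support (Z : Subgroup G) [Fintype Z] (f : G → ℂ) (h : ∀ g, g ∉ Z → f g = 0) :
    ∑ g : G, f g = ∑ z : Z, f z := by
  classical
  rw [← Finset.sum_subtype (Finset.univ.filter (· ∈ Z)) (by simp) f]
  exact (Finset.sum_filter_of_ne fun g _ hg => by_contra fun hh => hg (h g hh)).symm

theorem sum_self {φ : G → ℂ} (hφ : IsIrrCharacter G φ) :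
    ∑ g : G, φ g * conj (φ g) = (Nat.card G : ℂ) := by
  rw [← Char.card_mul_classInner, Char.classInner_irr_self hφ, mul_one]

/-- Two irreducible characters that agree up to the factors `a, b` on `Z` against `θ`:
vanishing off `Z` forces the inner product. -/
theorem classInner_of_vanish {Z : Subgroup G} [Fintype Z] {φ : G → ℂ} {θ : Z → ℂ} {a : ℂ}
    (hφ : ∀ g, g ∉ Z → φ g = 0) (hres : ∀ z : Z, φ z = a * θ z) (ψ : G → ℂ) :
    (Nat.card G : ℂ) * classInner φ ψ =
      a * ((Nat.card Z : ℂ) * classInner θ (fun z : Z => ψ z)) := by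
  rw [Char.card_mul_classInner, Char.card_mul_classInner,
    sum_eq_sum_of_support Z (fun g => φ g * conj (ψ g)) (fun g hg => by simp [hφ g hg]), Finset.mul_sum]
  exact Finset.sum_congr rfl fun z _ => by rw [hres]; ring

section Basic

variable {Z : Subgroup G} [hZn : Z.Normal] [Fintype Z] {χ : G → ℂ} {θ : Z → ℂ} {e : ℕ}

theorem e_ne_zero (he : e ^ 2 = Z.index) : e ≠ 0 := by
  rintro rfl
  exact Z.index_ne_zero_of_finite (by simpa using he.symm)

theorem invariant (hχ : IsIrrCharacter G χ) (he : e ^ 2 = Z.index)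
    (hres : ∀ z : Z, χ z = (e : ℂ) * θ z) (g : G) (z : Z) :
    θ ⟨g * z * g⁻¹, hZn.conj_mem z z.2 g⟩ = θ z := by
  have h1 := hres ⟨g * z * g⁻¹, hZn.conj_mem z z.2 g⟩
  rw [Char.IsIrrCharacter.isClassFunction hχ (z : G) g, hres z] at h1
  exact (mul_left_cancel₀ (Nat.cast_ne_zero.mpr (e_ne_zero he)) h1).symm

theorem eq_zero_of_notMem (hχ : IsIrrCharacter G χ) (hθ : IsIrrCharacter Z θ) (he : e ^ 2 = Z.index)
    (hres : ∀ z : Z, χ z = (e : ℂ) * θ z) {g : G} (hg : g ∉ Z) : χ g = 0 := by
  classical
  have h1 := sum_self hχ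
  have h2 : ∑ x ∈ Finset.univ.filter (· ∈ Z), χ x * conj (χ x) = (Nat.card G : ℂ) := by
    rw [Finset.sum_subtype (Finset.univ.filter (· ∈ Z)) (p := (· ∈ Z)) (by simp)]
    rw [Finset.sum_congr rfl fun (z : Z) _ => show χ (z : G) * conj (χ (z : G)) =
      ((e : ℂ) * e) * (θ z * conj (θ z)) by rw [hres z, map_mul, Complex.conj_natCast]; ring,
      ← Finset.mul_sum, sum_self hθ, ← Z.index_mul_card, ← he]
    push_cast
    ring
  rw [← Finset.sum_filter_add_sum_filter_not Finset.univ (fun x : G => x ∈ Z), h2, add_eq_left] at h1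
  have h3 : ∑ x ∈ Finset.univ.filter (fun x : G => x ∉ Z), Complex.normSq (χ x) = 0 := by
    apply Complex.ofReal_injective
    push_cast
    rw [← h1]
    exact Finset.sum_congr rfl fun x _ => (Complex.mul_conj _).symm
  exact Complex.normSq_eq_zero.mp
    ((Finset.sum_eq_zero_iff_of_nonneg fun x _ => Complex.normSq_nonneg _).mp h3 g (by simp [hg]))

/-- The only irreducible character over `θ` is `χ`. -/
theorem eq_of_over (hχ : IsIrrCharacter G χ) (hθ : IsIrrCharacter Z θ) (he : e ^ 2 = Z.index)
    (hres : ∀ z : Z, χ z = (e : ℂ) * θ z) {ψ : G → ℂ} (hψ : IsIrrCharacter G ψ)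
    (hover : classInner (fun z : Z => ψ z) θ ≠ 0) : ψ = χ := by
  by_contra hne
  have h := classInner_of_vanish (fun g hg => eq_zero_of_notMem hχ hθ he hres hg) hres ψ
  rw [Char.classInner_irr_of_ne hχ hψ (Ne.symm hne), mul_zero, ← Char.classInner_conj_symm
    (fun z : Z => ψ z) θ] at h
  simp [e_ne_zero he, Nat.card_pos.ne'] at h
  exact hover h

end Basic

/-- Extension to a cyclic quotient. -/
theorem exists_extension_of_cyclic {Z : Subgroup G} [hZn : Z.Normal] (hcyc : IsCyclic (G ⧸ Z)) {θ : Z → ℂ}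
    (hθ : IsIrrCharacter Z θ)
    (hinv : ∀ (g : G) (z : Z), θ ⟨g * z * g⁻¹, hZn.conj_mem z z.2 g⟩ = θ z) :
    ∃ φ : G → ℂ, IsIrrCharacter G φ ∧ ∀ z : Z, φ z = θ z := by
  obtain ⟨n, ρ, hρ, rfl⟩ := hθ
  obtain ⟨R, hR⟩ := CharExtend.hom_of_cyclic hcyc ρ hinv
  exact CharExtend.extends_of_hom ρ R hR

/-- Linear characters of an abelian quotient. -/
theorem exists_quotient_hom {Z : Subgroup G} [Z.Normal] (hcomm : ∀ a b : G ⧸ Z, a * b = b * a)
    (ω : IrrCharacter (G ⧸ Z)) :
    ∃ l : G →* ℂ, ∀ g : G, l g = (ω : G ⧸ Z → ℂ) g := by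
  obtain ⟨l, hl⟩ := Char.exists_hom_of_degree_one (Char.IsIrrCharacter.isCharacter ω.2)
    (Char.apply_one_eq_one_of_comm hcomm ω)
  exact ⟨l.comp (QuotientGroup.mk' Z), fun g => congrFun hl _⟩

open Classical in
/-- The part of an extension supported on a coset, as a combination of the twisted extensions. -/
theorem coset_expansion {Z : Subgroup G} [Z.Normal] (hcomm : ∀ a b : G ⧸ Z, a * b = b * a)
    [Fintype (IrrCharacter (G ⧸ Z))] (φ : G → ℂ) (q : G ⧸ Z) :
    (Z.index : ℂ) • (fun g : G => if (g : G ⧸ Z) = q then φ g else 0) =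
      ∑ ω : IrrCharacter (G ⧸ Z), conj ((ω : G ⧸ Z → ℂ) q) •
        (fun g : G => φ g * (ω : G ⧸ Z → ℂ) g) := by
  funext g
  simp only [Pi.smul_apply, Finset.sum_apply, smul_eq_mul]
  rw [Finset.sum_congr rfl fun (ω : IrrCharacter (G ⧸ Z)) _ => show conj ((ω : G ⧸ Z → ℂ) q) * (φ g * (ω : G ⧸ Z → ℂ) g) =
    φ g * ((ω : G ⧸ Z → ℂ) g * conj ((ω : G ⧸ Z → ℂ) q)) by ring, ← Finset.mul_sum,
    Char.column_orth]
  have hc : ∀ a : G ⧸ Z, Nat.card (Subgroup.centralizer ({a} : Set (G ⧸ Z))) = Z.index := by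
    intro a
    rw [show Subgroup.centralizer ({a} : Set (G ⧸ Z)) = ⊤ from eq_top_iff.mpr fun b _ =>
      Subgroup.mem_centralizer_singleton_iff.mpr (hcomm b a), Subgroup.card_top]
    rfl
  have hiff : IsConj (g : G ⧸ Z) q ↔ (g : G ⧸ Z) = q := by
    refine ⟨fun h => ?_, fun h => h ▸ IsConj.refl _⟩
    obtain ⟨c, hc⟩ := isConj_iff.mp h
    rw [← hc, hcomm c, mul_inv_cancel_right]
  by_cases h : (g : G ⧸ Z) = q
  · rw [if_pos h, if_pos (hiff.mpr h), hc]
    ring
  · rw [if_neg h, if_neg (fun hh => h (hiff.mp hh))]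
    simp

open Classical in
/-- An extension has squared norm `|Z|` on every coset of `Z` when the quotient is abelian. -/
theorem coset_sum_eq_card {Z : Subgroup G} [Z.Normal] [Fintype Z]
    (hcomm : ∀ a b : G ⧸ Z, a * b = b * a) {φ : G → ℂ} (hφ : IsIrrCharacter G φ)
    (hres : IsIrrCharacter Z (fun z : Z => φ z)) (q : G ⧸ Z) :
    ∑ g ∈ Finset.univ.filter (fun g : G => (g : G ⧸ Z) = q), φ g * conj (φ g) =
      (Nat.card Z : ℂ) := by
  haveI := Fintype.ofFinite (IrrCharacter (G ⧸ Z))
  have key : ∀ q : G ⧸ Z, (Z.index : ℂ) *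
      ∑ g ∈ Finset.univ.filter (fun g : G => (g : G ⧸ Z) = q), φ g * conj (φ g) = (Nat.card G : ℂ) := by
    intro q
    have h0 : ∀ ω : IrrCharacter (G ⧸ Z), (ω : G ⧸ Z → ℂ) ≠ (fun _ => 1) →
        ∑ g : G, φ g * (ω : G ⧸ Z → ℂ) g * conj (φ g) = 0 := by
      intro ω hω
      obtain ⟨l, hl⟩ := exists_quotient_hom hcomm ω
      have hne : (fun g => φ g * l g) ≠ φ := by
        intro heq
        have hres' : ∀ g : G, l g ≠ 1 → φ g = 0 := fun g hg => by
          have h2 := congrFun heq g
          exact (mul_eq_zero.mp (show φ g * (l g - 1) = 0 by rw [mul_sub, mul_one, h2, sub_self])).resolve_right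
            (sub_ne_zero.mpr hg)
        -- `φ` would vanish outside the proper subgroup where `l = 1`
        let L : Subgroup G := l.toHomUnits.ker
        have hLmem : ∀ g : G, g ∈ L ↔ l g = 1 := fun g => by
          rw [MonoidHom.mem_ker, Units.ext_iff]; simp
        haveI := Fintype.ofFinite L
        have hZL : Z ≤ L := fun z hz => by
          rw [hLmem, hl, (QuotientGroup.eq_one_iff z).mpr hz]
          obtain ⟨k, hk⟩ := Char.exists_hom_of_degree_one (Char.IsIrrCharacter.isCharacter ω.2)
            (Char.apply_one_eq_one_of_comm hcomm ω)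
          rw [← hk, map_one]
        have hφL : IsIrrCharacter L (fun x : L => φ x) := by
          have hc := Char.IsCharacter.restrict (Char.IsIrrCharacter.isCharacter hφ) L
          obtain ⟨θ', hθ'⟩ : ∃ θ' : IrrCharacter L, classInner (fun x : L => φ x) (θ' : L → ℂ) ≠ 0 := by
            by_contra hh
            push Not at hh
            have := Char.eq_zero_of_forall_classInner_irr (Char.IsCharacter.isClassFunction hc) hh
            exact Char.IsIrrCharacter.apply_one_ne_zero hφ (congrFun this 1)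
          haveI := Fintype.ofFinite (IrrCharacter L)
          obtain ⟨m, hm, hm'⟩ := Char.IsCharacter.decompose hc
          -- restrict further to `Z`
          let Z' : Subgroup L := Z.subgroupOf L
          haveI := Fintype.ofFinite Z'
          let eZ : Z' ≃* Z := Subgroup.subgroupOfEquivOfLe hZL
          have hirrZ : IsIrrCharacter Z' (fun x : Z' => φ ((x : L) : G)) :=
            Char.IsIrrCharacter.comp_equiv hres eZ
          refine (Char.isIrrCharacter_iff_norm_one hc).mpr ?_
          have hsum : (fun x : Z' => φ ((x : L) : G)) =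
              ∑ ψ : IrrCharacter L, (m ψ : ℂ) • (fun x : Z' => (ψ : L → ℂ) x) := by
            funext x
            have := congrFun hm (x : L)
            simp only [Finset.sum_apply, Pi.smul_apply] at this ⊢
            exact this
          have h1 := Char.classInner_irr_self hirrZ
          have hnat : ∀ ψ : IrrCharacter L, ∃ k : ℕ, classInner (fun x : Z' => (ψ : L → ℂ) x)
              (fun x : Z' => φ ((x : L) : G)) = k := fun ψ =>
            Char.IsCharacter.classInner_nat
              (Char.IsCharacter.restrict (Char.IsIrrCharacter.isCharacter ψ.2) Z')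
              (Char.IsIrrCharacter.isCharacter hirrZ)
          choose k hk using hnat
          -- each constituent restricts to a positive multiple of the irreducible restriction
          have hkpos : ∀ ψ : IrrCharacter L, m ψ ≠ 0 → k ψ ≠ 0 := by
            intro ψ hmψ hk0
            have hd : ∀ η : IrrCharacter Z', classInner (fun x : Z' => (ψ : L → ℂ) x) (η : Z' → ℂ) = 0 := by
              intro η
              by_cases hη : (η : Z' → ℂ) = fun x : Z' => φ ((x : L) : G)
              · rw [hη, hk, hk0, Nat.cast_zero]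
              · have h2 := Char.classInner_irr_of_ne hirrZ η.2 (Ne.symm hη)
                rw [hsum, Char.classInner_sum_left] at h2
                have hn : ∀ ψ' : IrrCharacter L, ∃ k' : ℕ,
                    classInner (fun x : Z' => (ψ' : L → ℂ) x) (η : Z' → ℂ) = k' := fun ψ' =>
                  Char.IsCharacter.classInner_nat
                    (Char.IsCharacter.restrict (Char.IsIrrCharacter.isCharacter ψ'.2) Z')
                    (Char.IsIrrCharacter.isCharacter η.2)
                choose k' hk' using hn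
                simp only [Char.classInner_smul_left, hk'] at h2
                rw [hk']
                have h3 : ∑ ψ' : IrrCharacter L, m ψ' * k' ψ' = 0 := by exact_mod_cast h2
                have h4 := (Finset.sum_eq_zero_iff.mp h3) ψ (Finset.mem_univ _)
                rw [(Nat.mul_eq_zero.mp h4).resolve_left hmψ, Nat.cast_zero]
            have h5 := Char.eq_zero_of_forall_classInner_irr
              (Char.IsCharacter.isClassFunction
                (Char.IsCharacter.restrict (Char.IsIrrCharacter.isCharacter ψ.2) Z')) hd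
            exact Char.IsIrrCharacter.apply_one_ne_zero ψ.2 (congrFun h5 1)
          conv at h1 => lhs; arg 1; rw [hsum]
          simp only [Char.classInner_sum_left, Char.classInner_smul_left, hk] at h1
          have h2 : ∑ ψ : IrrCharacter L, m ψ * k ψ = 1 := by exact_mod_cast h1
          have hnorm : classInner (fun x : L => φ x) (fun x : L => φ x) =
              ((∑ ψ : IrrCharacter L, m ψ * m ψ : ℕ) : ℂ) := by
            rw [Char.classInner_eq_sum (Char.IsCharacter.isClassFunction hc)]
            push_cast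
            exact Finset.sum_congr rfl fun ψ _ => by rw [hm', Complex.conj_natCast]
          rw [hnorm]
          have h6 : ∑ ψ : IrrCharacter L, m ψ * m ψ = 1 := by
            rw [← h2]
            refine Finset.sum_congr rfl fun ψ _ => ?_
            rcases Nat.eq_zero_or_pos (m ψ) with h7 | h7
            · simp [h7]
            · have h8 : m ψ * k ψ ≤ 1 := h2 ▸ Finset.single_le_sum (f := fun ψ => m ψ * k ψ)
                (fun _ _ => Nat.zero_le _) (Finset.mem_univ ψ)
              have h9 := Nat.pos_of_ne_zero (hkpos ψ h7.ne')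
              have h10 : m ψ ≤ 1 := le_trans (Nat.le_mul_of_pos_right _ h9) h8
              have h11 : k ψ ≤ 1 := le_trans (Nat.le_mul_of_pos_left _ h7) h8
              rw [show m ψ = 1 by omega, show k ψ = 1 by omega]
          rw [h6, Nat.cast_one]
        have h1 := sum_self hφ
        rw [sum_eq_sum_of_support L (fun g => φ g * conj (φ g))
          (fun g hg => by simp [hres' g ((hLmem g).not.mp hg)]), sum_self hφL] at h1
        have h2 : L = ⊤ := Subgroup.eq_top_of_card_eq L (Nat.cast_injective h1)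
        apply hω
        funext x
        obtain ⟨g, rfl⟩ := QuotientGroup.mk'_surjective Z x
        show (ω : G ⧸ Z → ℂ) (g : G ⧸ Z) = 1
        rw [← hl, ← hLmem, h2]
        exact Subgroup.mem_top g
      have h3 := Char.card_mul_classInner (fun g => φ g * l g) φ
      rw [Char.classInner_irr_of_ne (Char.IsIrrCharacter.mul_linear hφ l) hφ hne, mul_zero] at h3
      rw [h3]
      exact Finset.sum_congr rfl fun g _ => by rw [hl]
    have hexp := congrArg (fun f : G → ℂ => ∑ g : G, f g * conj (φ g)) (coset_expansion hcomm φ q)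
    simp only [Pi.smul_apply, Finset.sum_apply, smul_eq_mul, Finset.sum_mul] at hexp
    rw [Finset.sum_comm (f := fun g ω => _ * _ * conj (φ g))] at hexp
    let one : IrrCharacter (G ⧸ Z) := ⟨fun _ => 1, Char.isIrrCharacter_one⟩
    rw [Finset.sum_eq_single (s := (Finset.univ : Finset (IrrCharacter (G ⧸ Z)))) one] at hexp
    · rw [Finset.mul_sum, Finset.sum_filter]
      refine (Finset.sum_congr rfl fun g _ => ?_).trans (hexp.trans ?_)
      · split_ifs <;> simp [mul_assoc]
      · simp only [one, map_one, one_mul, mul_one]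
        exact sum_self hφ
    · intro ω _ hω
      rw [Finset.sum_congr rfl fun g _ => mul_assoc _ _ _, ← Finset.mul_sum,
        h0 ω (fun hh => hω (Subtype.ext hh)), mul_zero]
    · exact fun h => absurd (Finset.mem_univ _) h
  have h := key q
  rw [← Z.index_mul_card, Nat.cast_mul] at h
  exact mul_left_cancel₀ (Nat.cast_ne_zero.mpr Z.index_ne_zero_of_finite) h

/-- Full ramification passes to a subgroup `U ≥ Z` with `|U : Z|` the `p`-part of `|G : Z|`. -/
theorem pullback {Z : Subgroup G} [Z.Normal] [Fintype Z] {χ : G → ℂ} {θ : Z → ℂ} {e : ℕ}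
    (hχ : IsIrrCharacter G χ) (hθ : IsIrrCharacter Z θ) (he : e ^ 2 = Z.index)
    (hres : ∀ z : Z, χ z = (e : ℂ) * θ z)
    {U : Type*} [Group U] [Fintype U] (ι : U →* G) (hι : Function.Injective ι) (hZ : Z ≤ ι.range)
    {p : ℕ} (hp : p.Prime) {a : ℕ} (ha : (Z.comap ι).index = p ^ a) (hpr : ¬ p ∣ ι.range.index)
    [Fintype (Z.comap ι)] :
    IsIrrCharacter (Z.comap ι) (fun z => θ ⟨ι z, z.2⟩) ∧
      ∃ (ψ : U → ℂ) (f : ℕ), IsIrrCharacter U ψ ∧ f ^ 2 = (Z.comap ι).index ∧
        ∀ z : Z.comap ι, ψ z = (f : ℂ) * θ ⟨ι z, z.2⟩ := by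
  classical
  set Z' := Z.comap ι
  let eZ : Z' ≃* Z := MulEquiv.ofBijective (MonoidHom.mk' (fun z : Z' => (⟨ι z, z.2⟩ : Z))
      (fun a b => Subtype.ext (map_mul ι _ _)))
    ⟨fun a b h => Subtype.ext (hι (congrArg Subtype.val h)), fun z => by
      obtain ⟨u, hu⟩ := hZ z.2
      exact ⟨⟨u, show ι u ∈ Z by rw [hu]; exact z.2⟩, Subtype.ext hu⟩⟩
  have hθ' : IsIrrCharacter Z' (fun z => θ ⟨ι z, z.2⟩) := Char.IsIrrCharacter.comp_equiv hθ eZ
  refine ⟨hθ', ?_⟩
  set θ' : Z' → ℂ := fun z => θ ⟨ι z, z.2⟩
  -- the index of `Z` in `G`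
  have hidx : Z.index = p ^ a * ι.range.index := by
    rw [← ha, Subgroup.index_comap, Subgroup.relIndex_mul_index hZ]
  have hχU : IsCharacter U (fun u => χ (ι u)) :=
    Char.IsCharacter.comp_hom (Char.IsIrrCharacter.isCharacter hχ) ι
  have hχvan : ∀ u, u ∉ Z' → χ (ι u) = 0 := fun u hu => eq_zero_of_notMem hχ hθ he hres hu
  have hχres : ∀ z : Z', χ (ι z) = (e : ℂ) * θ' z := fun z => hres ⟨ι z, z.2⟩
  -- a constituent of `χ` restricted to `U`
  obtain ⟨ψ, hψ⟩ : ∃ ψ : IrrCharacter U, classInner (fun u => χ (ι u)) (ψ : U → ℂ) ≠ 0 := by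
    by_contra hh
    push Not at hh
    have := congrFun (Char.eq_zero_of_forall_classInner_irr (Char.IsCharacter.isClassFunction hχU) hh) 1
    rw [map_one] at this
    exact Char.IsIrrCharacter.apply_one_ne_zero hχ this
  obtain ⟨m, hm⟩ := Char.IsCharacter.classInner_nat hχU (Char.IsIrrCharacter.isCharacter ψ.2)
  have hψZ : IsCharacter Z' (fun z : Z' => (ψ : U → ℂ) z) :=
    Char.IsCharacter.restrict (Char.IsIrrCharacter.isCharacter ψ.2) Z'
  obtain ⟨f, hf⟩ := Char.IsCharacter.classInner_nat hψZ (Char.IsIrrCharacter.isCharacter hθ')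
  -- `ψ|Z' = f θ'`
  have hψres : ∀ z : Z', (ψ : U → ℂ) z = (f : ℂ) * θ' z := by
    haveI := Fintype.ofFinite (IrrCharacter U)
    obtain ⟨c, hc, hc'⟩ := Char.IsCharacter.decompose hχU
    have hcψ : c ψ ≠ 0 := fun h => hψ (by rw [hc', h, Nat.cast_zero])
    haveI := Fintype.ofFinite (IrrCharacter Z')
    have h0 : ∀ η : IrrCharacter Z', (η : Z' → ℂ) ≠ θ' →
        classInner (fun z : Z' => (ψ : U → ℂ) z) (η : Z' → ℂ) = 0 := by
      intro η hη
      have hn : ∀ φ : IrrCharacter U, ∃ k : ℕ,
          classInner (fun z : Z' => (φ : U → ℂ) z) (η : Z' → ℂ) = k := fun φ =>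
        Char.IsCharacter.classInner_nat (Char.IsCharacter.restrict (Char.IsIrrCharacter.isCharacter φ.2) Z')
          (Char.IsIrrCharacter.isCharacter η.2)
      choose k hk using hn
      have h1 : classInner (fun z : Z' => χ (ι z)) (η : Z' → ℂ) = 0 := by
        rw [show (fun z : Z' => χ (ι z)) = (e : ℂ) • θ' from funext hχres, Char.classInner_smul_left,
          Char.classInner_irr_of_ne hθ' η.2 (Ne.symm hη), mul_zero]
      have h2 : (fun z : Z' => χ (ι z)) =
          ∑ φ : IrrCharacter U, (c φ : ℂ) • (fun z : Z' => (φ : U → ℂ) z) := by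
        funext z
        have := congrFun hc (z : U)
        simp only [Finset.sum_apply, Pi.smul_apply] at this ⊢
        exact this
      rw [h2, Char.classInner_sum_left] at h1
      simp only [Char.classInner_smul_left, hk] at h1
      have h3 : ∑ φ : IrrCharacter U, c φ * k φ = 0 := by exact_mod_cast h1
      rw [hk, (Nat.mul_eq_zero.mp ((Finset.sum_eq_zero_iff.mp h3) ψ (Finset.mem_univ _))).resolve_left hcψ,
        Nat.cast_zero]
    have h := Char.classFunction_eq_sum (Char.IsCharacter.isClassFunction hψZ)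
    rw [Finset.sum_eq_single ⟨θ', hθ'⟩ (fun η _ hη => by
      rw [h0 η (fun hh => hη (Subtype.ext hh)), zero_smul]) (fun h => absurd (Finset.mem_univ _) h)] at h
    intro z
    rw [congrFun h z, Pi.smul_apply, smul_eq_mul, hf]
  -- the arithmetic
  have hkey := classInner_of_vanish hχvan hχres (ψ : U → ℂ)
  rw [hm, show (fun z : Z' => (ψ : U → ℂ) z) = (f : ℂ) • θ' from funext hψres,
    Char.classInner_smul_right, Char.classInner_irr_self hθ', Complex.conj_natCast, mul_one,
    ← Z'.index_mul_card, ha] at hkey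
  have hkey' : p ^ a * m = e * f := by
    have h4 : (Nat.card Z' : ℕ) * (p ^ a * m) = Nat.card Z' * (e * f) := by
      have h5 : ((p ^ a * Nat.card Z' * m : ℕ) : ℂ) = ((e * (Nat.card Z' * f) : ℕ) : ℂ) := by
        push_cast
        convert hkey using 1 <;> push_cast <;> ring
      rw [Nat.cast_inj] at h5
      linarith
    exact Nat.eq_of_mul_eq_mul_left Nat.card_pos h4
  have hle : f ^ 2 ≤ p ^ a := by
    have h1 := sum_self ψ.2
    rw [← Finset.sum_filter_add_sum_filter_not Finset.univ (fun x : U => x ∈ Z'),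
      Finset.sum_subtype (Finset.univ.filter (· ∈ Z')) (p := (· ∈ Z')) (by simp),
      Finset.sum_congr rfl (fun (z : Z') _ => show (ψ : U → ℂ) (z : U) * conj ((ψ : U → ℂ) (z : U)) =
        ((f : ℂ) * f) * (θ' z * conj (θ' z)) by rw [hψres z, map_mul, Complex.conj_natCast]; ring),
      ← Finset.mul_sum, sum_self hθ'] at h1
    have h2 := congrArg Complex.re h1
    rw [Complex.add_re, Complex.re_sum] at h2
    have h3 : (0 : ℝ) ≤ ∑ x ∈ Finset.univ.filter (fun x : U => x ∉ Z'),
        ((ψ : U → ℂ) x * conj ((ψ : U → ℂ) x)).re := Finset.sum_nonneg fun x _ => by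
      rw [Complex.mul_conj, Complex.ofReal_re]; exact Complex.normSq_nonneg _
    have h4 : ((f ^ 2 * Nat.card Z' : ℕ) : ℝ) ≤ (Nat.card U : ℝ) := by
      rw [Complex.natCast_re] at h2
      rw [← h2]
      refine le_trans (le_of_eq ?_) (le_add_of_nonneg_right h3)
      simp only [Nat.cast_mul, Nat.cast_pow, Complex.mul_re, Complex.mul_im, Complex.natCast_re,
        Complex.natCast_im]
      ring
    rw [Nat.cast_le, ← Z'.index_mul_card, ha] at h4
    exact Nat.le_of_mul_le_mul_right h4 Nat.card_pos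
  have hfa : f ^ 2 = p ^ a := by
    have hm0 : m ≠ 0 := by rintro rfl; exact hψ (by rw [hm, Nat.cast_zero])
    have hf0 : 0 < f := by
      rcases Nat.eq_zero_or_pos f with hf0 | hf0
      · rw [hf0, mul_zero] at hkey'
        exact absurd (Nat.mul_eq_zero.mp hkey') (by simp [hp.ne_zero, hm0])
      · exact hf0
    -- `p ^ (2a) ∣ e² f² = p ^ a r f²` with `r` prime to `p`
    have h1 : p ^ a * (p ^ a * m ^ 2) = p ^ a * (ι.range.index * f ^ 2) := by
      have := congrArg (· ^ 2) hkey'
      simp only [mul_pow, he, hidx] at this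
      linarith
    have h2 : p ^ a ∣ ι.range.index * f ^ 2 :=
      ⟨m ^ 2, (Nat.eq_of_mul_eq_mul_left (pow_pos hp.pos a) h1).symm⟩
    have h3 : p ^ a ∣ f ^ 2 :=
      (Nat.Coprime.pow_left a (hp.coprime_iff_not_dvd.mpr hpr)).dvd_of_dvd_mul_left h2
    exact le_antisymm hle (Nat.le_of_dvd (pow_pos hf0 2) h3)
  exact ⟨(ψ : U → ℂ), f, ψ.2, hfa.trans ha.symm, hψres⟩

end Cfsg.Agent.FullyRamified
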