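/-
When only one irreducible character lies over `θ`, the characters over `θ` of an intermediate
normal subgroup form one orbit, and with cyclic quotient the orbit is regular.

* `over_of_constituent`, `over_conj`, `exists_over`
* `conj_transitive`, `stabilizer_le`
-/
import Cfsg.Agent.Lib.FullyRamified.Basic
import Cfsg.Agent.Lib.Char.Induced

set_option autoImplicit false

namespace Cfsg.Agent.FullyRamified

open Cfsg
open scoped ComplexConjugate

variable {G : Type*} [Group G] [Fintype G]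

/-- A constituent lying over `θ` forces the character to lie over `θ`. -/
theorem over_of_constituent {Z : Subgroup G} [Fintype Z] {φ : G → ℂ} {θ : Z → ℂ}
    (hφ : IsCharacter G φ) (hθ : IsCharacter Z θ) (η : IrrCharacter G)
    (hη : classInner φ (η : G → ℂ) ≠ 0)
    (hηθ : classInner (fun z : Z => (η : G → ℂ) z) θ ≠ 0) :
    classInner (fun z : Z => φ z) θ ≠ 0 := by
  classical
  haveI := Fintype.ofFinite (IrrCharacter G)
  obtain ⟨m, hm, hm'⟩ := Char.IsCharacter.decompose hφ
  have hn : ∀ ψ : IrrCharacter G, ∃ k : ℕ, classInner (fun z : Z => (ψ : G → ℂ) z) θ = k := fun ψ =>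
    Char.IsCharacter.classInner_nat (Char.IsCharacter.restrict (Char.IsIrrCharacter.isCharacter ψ.2) Z) hθ
  choose k hk using hn
  have h : (fun z : Z => φ z) = ∑ ψ : IrrCharacter G, (m ψ : ℂ) • (fun z : Z => (ψ : G → ℂ) z) := by
    funext z
    have := congrFun hm (z : G)
    simp only [Finset.sum_apply, Pi.smul_apply] at this ⊢
    exact this
  rw [h, Char.classInner_sum_left]
  simp only [Char.classInner_smul_left, hk]
  intro h0
  have h1 : ∑ ψ : IrrCharacter G, m ψ * k ψ = 0 := by exact_mod_cast h0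
  rcases Nat.mul_eq_zero.mp ((Finset.sum_eq_zero_iff.mp h1) η (Finset.mem_univ _)) with h2 | h2
  · exact hη (by rw [hm', h2, Nat.cast_zero])
  · exact hηθ (by rw [hk, h2, Nat.cast_zero])

/-- Some constituent of a character over `θ` lies over `θ`. -/
theorem exists_over {Z : Subgroup G} [Fintype Z] {φ : G → ℂ} {θ : Z → ℂ}
    (hφ : IsCharacter G φ) (hθφ : classInner (fun z : Z => φ z) θ ≠ 0) :
    ∃ η : IrrCharacter G, classInner φ (η : G → ℂ) ≠ 0 ∧ classInner (fun z : Z => (η : G → ℂ) z) θ ≠ 0 := by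
  classical
  haveI := Fintype.ofFinite (IrrCharacter G)
  obtain ⟨m, hm, hm'⟩ := Char.IsCharacter.decompose hφ
  by_contra hh
  apply hθφ
  have h : (fun z : Z => φ z) = ∑ ψ : IrrCharacter G, (m ψ : ℂ) • (fun z : Z => (ψ : G → ℂ) z) := by
    funext z
    have := congrFun hm (z : G)
    simp only [Finset.sum_apply, Pi.smul_apply] at this ⊢
    exact this
  rw [h, Char.classInner_sum_left]
  refine Finset.sum_eq_zero fun ψ _ => ?_
  rw [Char.classInner_smul_left]
  push Not at hh
  by_cases h1 : classInner φ (ψ : G → ℂ) = 0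
  · rw [← hm', h1, zero_mul]
  · rw [hh ψ h1, mul_zero]

variable {Z V : Subgroup G} [Z.Normal] [V.Normal] [Fintype V]

/-- If `ψ` is the only irreducible character over `θ`, those of `V` over `θ` are conjugate. -/
theorem conj_transitive [Fintype (Z.subgroupOf V)] [Fintype Z] (hZV : Z ≤ V) {θ : Z → ℂ}
    (hθ : IsIrrCharacter Z θ) {ψ : G → ℂ}
    (huniq : ∀ φ : G → ℂ, IsIrrCharacter G φ → classInner (fun z : Z => φ z) θ ≠ 0 → φ = ψ)
    {η η' : V → ℂ} (hη : IsIrrCharacter V η) (hη' : IsIrrCharacter V η')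
    (h : classInner (fun z : Z.subgroupOf V => η z) (fun z : Z.subgroupOf V => θ ⟨(z : V), z.2⟩) ≠ 0)
    (h' : classInner (fun z : Z.subgroupOf V => η' z) (fun z : Z.subgroupOf V => θ ⟨(z : V), z.2⟩) ≠ 0) :
    IsIrrCharacter G ψ ∧ classInner (fun v : V => ψ v) η ≠ 0 ∧
      ∃ x : G, CliffordChar.conjFun V x η = η' := by
  classical
  let eZ : Z.subgroupOf V ≃* Z := Subgroup.subgroupOfEquivOfLe hZV
  have hθ' : IsIrrCharacter (Z.subgroupOf V) (fun z : Z.subgroupOf V => θ ⟨(z : V), z.2⟩) :=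
    Char.IsIrrCharacter.comp_equiv hθ eZ
  have key : ∀ η₀ : V → ℂ, IsIrrCharacter V η₀ →
      classInner (fun z : Z.subgroupOf V => η₀ z) (fun z : Z.subgroupOf V => θ ⟨(z : V), z.2⟩) ≠ 0 →
      IsIrrCharacter G ψ ∧ classInner (fun v : V => ψ v) η₀ ≠ 0 := by
    intro η₀ hη₀ h₀
    have hind := Char.IsCharacter.indFun V (Char.IsIrrCharacter.isCharacter hη₀)
    obtain ⟨φ, hφ⟩ : ∃ φ : IrrCharacter G, classInner (indFun V η₀) (φ : G → ℂ) ≠ 0 := by
      by_contra hh
      push Not at hh
      have := congrFun (Char.eq_zero_of_forall_classInner_irr (Char.IsCharacter.isClassFunction hind) hh) 1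
      rw [Char.indFun_one_apply] at this
      rcases mul_eq_zero.mp this with h | h
      · exact V.index_ne_zero_of_finite (by exact_mod_cast h)
      · exact Char.IsIrrCharacter.apply_one_ne_zero hη₀ h
    rw [Char.frobenius_reciprocity V η₀ (Char.IsIrrCharacter.isClassFunction φ.2),
      ← Char.classInner_conj_symm] at hφ
    have hφ' : classInner (fun v : V => (φ : G → ℂ) v) η₀ ≠ 0 := fun hh => hφ (by rw [hh, map_zero])
    have h1 := over_of_constituent
      (Char.IsCharacter.restrict (Char.IsIrrCharacter.isCharacter φ.2) V)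
      (Char.IsIrrCharacter.isCharacter hθ') ⟨η₀, hη₀⟩ hφ' h₀
    have h2 : classInner (fun z : Z => (φ : G → ℂ) z) θ ≠ 0 := by
      rw [← Char.classInner_comp_equiv eZ]
      exact h1
    have h3 := huniq _ φ.2 h2
    exact ⟨h3 ▸ φ.2, h3 ▸ hφ'⟩
  obtain ⟨hψ, h1⟩ := key η hη h
  exact ⟨hψ, h1, CliffordChar.constituents_conjugate V hψ hη hη' h1 (key η' hη' h').2⟩

set_option maxHeartbeats 4000000 in
/-- With a cyclic quotient, only elements of `V` fix a character of `V` over `θ`. -/
theorem stabilizer_le [Fintype (Z.subgroupOf V)] [Fintype Z] (hZV : Z ≤ V) (hcyc : IsCyclic (G ⧸ V))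
    {θ : Z → ℂ} (hθ : IsIrrCharacter Z θ) {ψ : G → ℂ}
    (huniq : ∀ φ : G → ℂ, IsIrrCharacter G φ → classInner (fun z : Z => φ z) θ ≠ 0 → φ = ψ)
    {η : V → ℂ} (hη : IsIrrCharacter V η)
    (h : classInner (fun z : Z.subgroupOf V => η z) (fun z : Z.subgroupOf V => θ ⟨(z : V), z.2⟩) ≠ 0)
    {u : G} (hu : CliffordChar.conjFun V u η = η) : u ∈ V := by
  classical
  by_contra huV
  let T : Subgroup G :=
    { carrier := {x | CliffordChar.conjFun V x η = η}
      one_mem' := CliffordChar.conjFun_one V η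
      mul_mem' := fun {a b} (ha : _ = η) (hb : _ = η) =>
        show CliffordChar.conjFun V (a * b) η = η by rw [CliffordChar.conjFun_mul, hb, ha]
      inv_mem' := fun {a} (ha : _ = η) => show CliffordChar.conjFun V a⁻¹ η = η by
        conv_lhs => rw [← ha, ← CliffordChar.conjFun_mul, inv_mul_cancel, CliffordChar.conjFun_one] }
  have hVT : V ≤ T := fun v hv => by
    show CliffordChar.conjFun V v η = η
    funext n
    rw [CliffordChar.conjFun_apply]
    have h1 := Char.IsIrrCharacter.isClassFunction hη n (⟨v, hv⟩⁻¹ : V)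
    rw [inv_inv] at h1
    rw [← h1]
    exact congrArg η (Subtype.ext (by simp))
  have hTn : T.Normal := by
    refine ⟨fun t ht g => ?_⟩
    haveI := hcyc
    have h1 : g * t * g⁻¹ * t⁻¹ ∈ V := by
      apply (QuotientGroup.eq_one_iff _).mp
      rw [QuotientGroup.mk_mul, QuotientGroup.mk_mul, QuotientGroup.mk_mul, QuotientGroup.mk_inv,
        QuotientGroup.mk_inv]
      letI := IsCyclic.commGroup (α := G ⧸ V)
      rw [mul_comm (g : G ⧸ V) (t : G ⧸ V), mul_inv_cancel_right, mul_inv_cancel]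
    have h2 := T.mul_mem (hVT h1) ht
    simpa using h2
  let V' : Subgroup T := V.subgroupOf T
  haveI : V'.Normal := inferInstanceAs (V.subgroupOf T).Normal
  let eV : V' ≃* V := Subgroup.subgroupOfEquivOfLe hVT
  haveI := Fintype.ofFinite V'
  haveI := Fintype.ofFinite T
  let f : T ⧸ V' →* G ⧸ V := QuotientGroup.map V' V T.subtype (fun x hx => hx)
  have hf : Function.Injective f := by
    rw [← MonoidHom.ker_eq_bot_iff, eq_bot_iff]
    intro x hx
    induction x using QuotientGroup.induction_on with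
    | H x => exact (QuotientGroup.eq_one_iff x).mpr ((QuotientGroup.eq_one_iff (x : G)).mp hx)
  haveI hcycT : IsCyclic (T ⧸ V') := @isCyclic_of_injective _ _ _ _ hcyc f hf
  have hirrT : IsIrrCharacter V' (fun v => η (eV v)) := Char.IsIrrCharacter.comp_equiv hη eV
  obtain ⟨φ, hφ, hφres⟩ := exists_extension_of_cyclic hcycT hirrT (fun t v => by
    have h1 : CliffordChar.conjFun V (t : G)⁻¹ η = η := T.inv_mem t.2
    have h2 := congrFun h1 (eV v)
    rw [CliffordChar.conjFun_apply] at h2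
    rw [← h2]
    exact congrArg η (Subtype.ext (by simp only [inv_inv]; rfl)))
  have hcommT : ∀ a b : T ⧸ V', a * b = b * a := fun a b =>
    (IsCyclic.commGroup (α := T ⧸ V')).mul_comm a b
  let q : T ⧸ V' := ((⟨u, hu⟩ : T) : T ⧸ V')
  obtain ⟨ω, hω⟩ : ∃ ω : IrrCharacter (T ⧸ V'), (ω : T ⧸ V' → ℂ) q ≠ (ω : T ⧸ V' → ℂ) 1 := by
    by_contra hh
    push Not at hh
    obtain ⟨c, hc⟩ := isConj_iff.mp ((Char.isConj_iff_irr q 1).mpr hh)
    apply huV
    have h1 : q = 1 := by rw [← hc, hcommT c, mul_inv_cancel_right]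
    exact (QuotientGroup.eq_one_iff (N := V') (⟨u, hu⟩ : T)).mp h1
  obtain ⟨l, hl⟩ := exists_quotient_hom hcommT ω
  have hlV : ∀ v : V', l v = 1 := fun v => by
    rw [hl, (QuotientGroup.eq_one_iff (v : T)).mpr v.2, ← QuotientGroup.mk_one, ← hl, map_one]
  have hlq : l ⟨u, hu⟩ ≠ 1 := fun hh => hω (by
    rw [← QuotientGroup.mk_one V', ← hl 1, map_one, ← hh]
    exact (hl _).symm)
  have hne : (fun t => φ t * l t) ≠ φ := by
    intro heq
    have h1 := coset_sum_eq_card hcommT hφ
      (by rw [show (fun v : V' => φ v) = fun v => η (eV v) from funext hφres]; exact hirrT) q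
    rw [Finset.sum_eq_zero] at h1
    · exact Nat.card_pos.ne' (Nat.cast_eq_zero.mp h1.symm)
    · intro t ht
      have h2 : φ t * l t = φ t := congrFun heq t
      have h3 : l t = l ⟨u, hu⟩ := by rw [hl, hl, (Finset.mem_filter.mp ht).2]
      have h4 : φ t = 0 := by
        by_contra h5
        exact hlq (h3 ▸ mul_left_cancel₀ h5 (h2.trans (mul_one _).symm))
      rw [h4, zero_mul]
  haveI := hTn
  haveI := Fintype.ofFinite (Z.subgroupOf T)
  let eT : Z.subgroupOf T ≃* Z.subgroupOf V :=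
    (Subgroup.subgroupOfEquivOfLe (hZV.trans hVT)).trans (Subgroup.subgroupOfEquivOfLe hZV).symm
  have hover : ∀ φ' : T → ℂ, (∀ v : V', φ' v = η (eV v)) →
      classInner (fun z : Z.subgroupOf T => φ' z) (fun z : Z.subgroupOf T => θ ⟨(z : T), z.2⟩) ≠ 0 := by
    intro φ' hφ' h0
    apply h
    rw [← Char.classInner_comp_equiv eT]
    refine Eq.trans ?_ h0
    congr 1
    funext z
    exact (hφ' ⟨(z : T), hZV z.2⟩).symm
  obtain ⟨-, -, x, hx⟩ := conj_transitive (V := T) (hZV.trans hVT) hθ huniq hφ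
    (Char.IsIrrCharacter.mul_linear hφ l) (hover φ hφres)
    (hover (fun t => φ t * l t) fun v => by rw [hlV, mul_one, hφres])
  have hxT : x ∈ T := by
    show CliffordChar.conjFun V x η = η
    funext n
    have h1 := congrFun hx ⟨n, hVT n.2⟩
    rw [CliffordChar.conjFun_apply] at h1
    have hn' : x⁻¹ * (n : G) * x ∈ V := by simpa using Subgroup.Normal.conj_mem ‹V.Normal› _ n.2 x⁻¹
    have e1 := hφres ⟨⟨x⁻¹ * (n : G) * x, hVT hn'⟩, hn'⟩
    have e2 := hφres ⟨⟨(n : G), hVT n.2⟩, n.2⟩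
    have e3 := hlV ⟨⟨(n : G), hVT n.2⟩, n.2⟩
    simp only [e1, e2, e3, mul_one] at h1
    rw [CliffordChar.conjFun_apply]
    exact h1
  apply hne
  rw [← hx]
  funext t
  rw [CliffordChar.conjFun_apply]
  have h1 := Char.IsIrrCharacter.isClassFunction hφ t (⟨x, hxT⟩⁻¹ : T)
  rw [inv_inv] at h1
  rw [← h1]
  exact congrArg φ (Subtype.ext (by simp))

end Cfsg.Agent.FullyRamified
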